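import Cfsg.Agent.H368.G3.Rt

/-!
# S3509, outer involutions of graph type, odd characteristic: the subgroup generated by the long root group (helper368)

* `zr e s c` : the element of `Fix τ` of the root `s`;
* `all_in` : a subgroup containing the `x_{±71}(c)` and normalised by all `zr e s c` contains all `zr e s c`.
-/

set_option autoImplicit false
set_option linter.unusedSectionVars false

namespace Cfsg.Agent.H368.G3

open CoxeterSystem Subgroup Cfsg Cfsg.Lie Cfsg.Lie.ChevalleyDatum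
open Cfsg.Agent.ChevalleyStructure.TwistedE6Sigma
open Cfsg.Agent.H469.Exc
open Cfsg.Agent.ChevalleyStructure.HMatDiagAll (expo)

variable {r : ℕ} [Fact r.Prime]

/-- the field of `r ^ n` elements -/
def Fq (n : ℕ) (c : KK r) : Prop := c ^ r ^ n = c

theorem fq_iff {n : ℕ} {c : KK r} : Fq n c ↔ iterateFrobenius (KK r) r n c = c := by
  unfold Fq
  rw [iterateFrobenius_def]

theorem Fq.neg {n : ℕ} {c : KK r} (h : Fq n c) : Fq n (-c) := by
  rw [fq_iff] at h ⊢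
  rw [map_neg, h]

theorem Fq.mul {n : ℕ} {c d : KK r} (h : Fq n c) (h' : Fq n d) : Fq n (c * d) := by
  rw [fq_iff] at h h' ⊢
  rw [map_mul, h, h']

theorem Fq.div {n : ℕ} {c d : KK r} (h : Fq n c) (h' : Fq n d) : Fq n (c / d) := by
  rw [fq_iff] at h h' ⊢
  rw [map_div₀, h, h']

theorem fq_one (n : ℕ) : Fq n (1 : KK r) := one_pow _

theorem fq_int (n : ℕ) (z : ℤ) : Fq n (z : KK r) := by
  rw [fq_iff, map_intCast]

theorem fq_two (n : ℕ) : Fq n (2 : KK r) := by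
  have h := fq_int (r := r) n 2
  rwa [Int.cast_ofNat] at h

theorem two_ne (hr2 : r ≠ 2) : (2 : KK r) ≠ 0 := by
  intro h
  have h3 : ((2 : ℕ) : KK r) = 0 := by exact_mod_cast h
  rw [CharP.cast_eq_zero_iff (KK r) r] at h3
  exact hr2 ((Nat.prime_dvd_prime_iff_eq Fact.out Nat.prime_two).1 h3)

/-- the element of `Fix τ` of the root `s` -/
noncomputable def zr (e : ℤ) (s : ℕ) (c : KK r) : YY r :=
  if rho s = s then xr s c else xr s c * xr (rho s) (((kap e s : ℤ) : KK r) * c)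

theorem zr_fix (e : ℤ) {s : ℕ} (h : rho s = s) (c : KK r) : zr e s c = xr s c := if_pos h

theorem zr_mov (e : ℤ) {s : ℕ} (h : rho s ≠ s) (c : KK r) : zr e s c = xr s c * xr (rho s) (((kap e s : ℤ) : KK r) * c) :=
  if_neg h

theorem zr_add (e : ℤ) {s : ℕ} (hs : s < 72) (c d : KK r) : zr e s (c + d) = zr e s c * zr e s d := by
  by_cases h : rho s = s
  · rw [zr_fix e h, zr_fix e h, zr_fix e h, xr_add]
  · obtain ⟨h1, h2, h3⟩ := pair_check s hs h
    rw [zr_mov e h, zr_mov e h, zr_mov e h, xr_add, mul_add, xr_add]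
    have h4 := comm0 (r := r) hs (rho_lt s hs) h2 h3 h1 d (((kap e s : ℤ) : KK r) * c)
    calc xr s c * xr s d * (xr (rho s) (((kap e s : ℤ) : KK r) * c) * xr (rho s) (((kap e s : ℤ) : KK r) * d)) =
        xr s c * (xr s d * xr (rho s) (((kap e s : ℤ) : KK r) * c)) * xr (rho s) (((kap e s : ℤ) : KK r) * d) := by group
      _ = xr s c * (xr (rho s) (((kap e s : ℤ) : KK r) * c) * xr s d) * xr (rho s) (((kap e s : ℤ) : KK r) * d) := by rw [h4]
      _ = _ := by group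

theorem zr_zero (e : ℤ) (s : ℕ) : zr e s (0 : KK r) = 1 := by
  unfold zr
  split_ifs
  · exact xr_zero s
  · rw [mul_zero, xr_zero, xr_zero, mul_one]

theorem zr_neg (e : ℤ) {s : ℕ} (hs : s < 72) (c : KK r) : zr e s (-c) = (zr e s c)⁻¹ := by
  rw [eq_inv_iff_mul_eq_one, ← zr_add e hs, neg_add_cancel, zr_zero]

theorem hh_zr (e : ℤ) {b : ℕ} (hb : b < 72) {s : ℕ} (hs : s < 72) (h1 : expo chevE6 b s % 2 ≠ 0)
    (h2 : expo chevE6 b (rho s) % 2 ≠ 0) (c : KK r) : hh hb * zr e s c * (hh hb)⁻¹ = zr e s (-c) := by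
  by_cases h : rho s = s
  · rw [zr_fix e h, zr_fix e h, hh_xr hb hs, if_neg h1]
  · rw [zr_mov e h, zr_mov e h]
    have e1 : hh hb * (xr s c * xr (rho s) (((kap e s : ℤ) : KK r) * c)) * (hh hb)⁻¹ =
        (hh hb * xr s c * (hh hb)⁻¹) * (hh hb * xr (rho s) (((kap e s : ℤ) : KK r) * c) * (hh hb)⁻¹) := by group
    rw [e1, hh_xr hb hs, if_neg h1, hh_xr hb (rho_lt s hs), if_neg h2, mul_neg]

/-- `kap` is `±1` -/
theorem kap_sq {e : ℤ} (he : e = 1 ∨ e = -1) {s : ℕ} (hs : s < 72) : kap e s * kap e s = 1 := by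
  unfold kap
  split_ifs
  · exact eps_sq s hs
  · have h1 : e * e = 1 := by rcases he with rfl | rfl <;> norm_num
    calc e * eps s * (e * eps s) = (e * e) * (eps s * eps s) := by ring
      _ = 1 := by rw [h1, eps_sq s hs, one_mul]

section cl

variable {n : ℕ} {e : ℤ} {M : Subgroup (YY r)}

theorem hh_in {b : ℕ} (hb : b < 72) (h1 : ∀ c, Fq n c → xr b c ∈ M) (h2 : ∀ c, Fq n c → xr (chevE6.neg b) c ∈ M) :
    hh hb ∈ M := by
  rw [hh_word hb]
  exact M.pow_mem (M.mul_mem (M.mul_mem (h1 _ (fq_one n)) (h2 _ (fq_one n).neg)) (h1 _ (fq_one n))) 2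

variable (hr2 : r ≠ 2) (hn : ∀ s < 72, In e s → ∀ c, Fq n c → ∀ m ∈ M, zr e s c * m * (zr e s c)⁻¹ ∈ M)

include hr2 hn

theorem odd_in {b : ℕ} (hb : b < 72) (hbM : hh hb ∈ M) {s : ℕ} (hs : s < 72) (hin : In e s)
    (h1 : expo chevE6 b s % 2 ≠ 0) (h2 : expo chevE6 b (rho s) % 2 ≠ 0) {c : KK r} (hc : Fq n c) : zr e s c ∈ M := by
  have h20 := two_ne hr2
  have hc' : Fq n (-(c / 2)) := (hc.div (fq_two n)).neg
  have h3 := M.mul_mem hbM (hn s hs hin _ hc' _ (M.inv_mem hbM))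
  have e1 : hh hb * (zr e s (-(c / 2)) * (hh hb)⁻¹ * (zr e s (-(c / 2)))⁻¹) =
      (hh hb * zr e s (-(c / 2)) * (hh hb)⁻¹) * (zr e s (-(c / 2)))⁻¹ := by group
  rw [e1, hh_zr e hb hs h1 h2, ← zr_neg e hs, ← zr_add e hs] at h3
  have e2 : - -(c / 2) + - -(c / 2) = c := by
    field_simp
    ring
  rwa [e2] at h3

omit hr2 hn in
theorem tb_in (hr2 : r ≠ 2) (he : e = 1 ∨ e = -1) {x : ℕ × ℕ × ℕ × ℤ} (hx : x ∈ Tb)
    (hM : ∀ s < 72, rho s ≠ s → expo chevE6 71 s % 2 ≠ 0 → ∀ c, Fq n c → zr e s c ∈ M) {c : KK r} (hc : Fq n c) :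
    xr x.2.2.1 c ∈ M := by
  obtain ⟨s, s', b, m⟩ := x
  obtain ⟨h1, h2, h3, h4, h5, h6, h7, h8, h9, h10, h11⟩ := tb_check _ hx
  simp only at h1 h2 h3 h4 h5 h6 h7 h8 h9 h10 h11 ⊢
  have h20 := two_ne hr2
  have hk : kap e s = e * eps s := by unfold kap; rw [if_neg h7]
  have hk' : kap e s' = kap e s := by
    unfold kap
    rw [if_neg h7, if_neg h8, h9]
  have hkk := kap_sq he h2
  have hmm : m * m = 1 := by rcases h10 with rfl | rfl <;> norm_num
  -- the parameter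
  obtain ⟨a, ha⟩ : ∃ a : KK r, a = -(((m * kap e s : ℤ) : KK r) * (c / 2)) := ⟨_, rfl⟩
  have haq : Fq n a := by
    rw [ha]
    exact ((fq_int n _).mul (hc.div (fq_two n))).neg
  have h12 := hM s h2 h5 h7 a haq
  have h13 := hM s' h3 h6 h8 1 (fq_one n)
  have h14 := comm2 (r := r) h1 h2 h3 h4 a (((kap e s : ℤ) : KK r) * a) 1 (((kap e s' : ℤ) : KK r) * 1)
  rw [← zr_mov e h5, ← zr_mov e h6] at h14
  have e1 : xr b (-((m : KK r) * a * (((kap e s' : ℤ) : KK r) * 1) + (m : KK r) * (((kap e s : ℤ) : KK r) * a) * 1)) =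
      (zr e s a * zr e s' 1)⁻¹ * (zr e s' 1 * zr e s a) := by rw [h14]; group
  have e2 : -((m : KK r) * a * (((kap e s' : ℤ) : KK r) * 1) + (m : KK r) * (((kap e s : ℤ) : KK r) * a) * 1) = c := by
    rw [hk', ha]
    have e3 : ((m : KK r) * ((kap e s : ℤ) : KK r)) * ((m : KK r) * ((kap e s : ℤ) : KK r)) = 1 := by
      have : ((m * m) * (kap e s * kap e s) : ℤ) = 1 := by rw [hmm, hkk, one_mul]
      have h15 : (((m * m) * (kap e s * kap e s) : ℤ) : KK r) = 1 := by rw [this, Int.cast_one]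
      rw [← h15]
      push_cast
      ring
    push_cast
    have e4 : -((m : KK r) * -((m : KK r) * ((kap e s : ℤ) : KK r) * (c / 2)) * (((kap e s : ℤ) : KK r) * 1) +
        (m : KK r) * (((kap e s : ℤ) : KK r) * -((m : KK r) * ((kap e s : ℤ) : KK r) * (c / 2))) * 1) =
        (((m : KK r) * ((kap e s : ℤ) : KK r)) * ((m : KK r) * ((kap e s : ℤ) : KK r))) * (2 * (c / 2)) := by ring
    rw [e4, e3, one_mul, mul_div_cancel₀ _ h20]
  rw [e2] at e1
  rw [e1]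
  exact M.mul_mem (M.inv_mem (M.mul_mem h12 h13)) (M.mul_mem h13 h12)

/-- **All root elements of `Fix τ`.** -/
theorem all_in (he : e = 1 ∨ e = -1) (h71 : ∀ c, Fq n c → xr 71 c ∈ M) (h0 : ∀ c, Fq n c → xr 0 c ∈ M) {s : ℕ}
    (hs : s < 72) (hin : In e s) {c : KK r} (hc : Fq n c) : zr e s c ∈ M := by
  have hb71 : hh (r := r) (b := 71) (by norm_num) ∈ M := hh_in (n := n) (by norm_num) h71 (by rw [neg_71]; exact h0)
  have hodd : ∀ s < 72, In e s → expo chevE6 71 s % 2 ≠ 0 → ∀ c, Fq n c → zr e s c ∈ M := fun s hs hin h1 c hc =>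
    odd_in hr2 hn (by norm_num) hb71 hs hin h1 (by rw [expo_rho s hs]; exact h1) hc
  have htb : ∀ x ∈ Tb, ∀ c : KK r, Fq n c → xr x.2.2.1 c ∈ M := fun x hx c hc =>
    tb_in hr2 he hx (fun s hs h1 h2 c hc => hodd s hs (Or.inl h1) h2 c hc) hc
  rcases cover_check s hs with h1 | rfl | rfl | ⟨x, hx, rfl⟩ | ⟨h1, b, hb, h2, h3⟩
  · exact hodd s hs hin h1 c hc
  · rw [zr_fix e (by decide +kernel)]
    exact h0 c hc
  · rw [zr_fix e (by decide +kernel)]
    exact h71 c hc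
  · rw [zr_fix e (tb_check x hx).2.2.2.2.2.2.2.2.2.2]
    exact htb x hx c hc
  · obtain ⟨⟨x, hx, hxb⟩, x', hx', hxb'⟩ := tb_mem b hb
    have hb72 : b < 72 := hxb ▸ (tb_check x hx).2.2.2.1
    refine odd_in hr2 hn hb72 (hh_in (n := n) hb72 (fun c hc => hxb ▸ htb x hx c hc) (fun c hc => hxb' ▸ htb x' hx' c hc))
      hs hin h2 h3 hc

end cl

end Cfsg.Agent.H368.G3
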