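import Cfsg.Agent.ChevalleyStructure.TwistedE6U
import Cfsg.Agent.ChevalleyStructure.HMatDiagAll
import Cfsg.Agent.Nodes.RGDChev

/-!
# S3509, outer involutions of graph type, odd characteristic: tables of `E₆` (helper368)

`71` the highest root, `0 = neg 71`, `rho`, `eps` the graph automorphism.

* `kap e s` : the sign of `τ` on the root `s`;
* `In e s` : `s` is moved by `rho` or fixed with sign `1`;
* `Ck` : the check of a commutator relation.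
-/

set_option autoImplicit false

namespace Cfsg.Agent.H368.G3

open Cfsg Cfsg.Lie Cfsg.Agent.ChevalleyStructure Cfsg.Agent.ChevalleyStructure.TwistedE6Sigma
open Cfsg.Agent.ChevalleyStructure.HMatDiagAll (expo)

/-- the sign of `τ` on the root `s` -/
def kap (e : ℤ) (s : ℕ) : ℤ := if expo chevE6 71 s % 2 = 0 then eps s else e * eps s

/-- the roots of `Fix τ` -/
def In (e : ℤ) (s : ℕ) : Prop := rho s ≠ s ∨ kap e s = 1

instance (e : ℤ) (s : ℕ) : Decidable (In e s) := by unfold In; infer_instance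

/-- the check of a commutator relation -/
def Ck (s s' b : ℕ) (n1 n2 : ℤ) : Prop :=
  chevE6.commTerms s (rho s') = [(b, n1, 1, 1)] ∧ chevE6.commTerms (rho s) s' = [(b, n2, 1, 1)] ∧
  chevE6.commTerms s s' = [] ∧ chevE6.commTerms (rho s) (rho s') = [] ∧
  chevE6.commTerms s b = [] ∧ chevE6.commTerms (rho s) b = [] ∧ chevE6.commTerms s' b = [] ∧
  chevE6.commTerms (rho s') b = [] ∧
  s' ≠ s ∧ s' ≠ chevE6.neg s ∧ rho s' ≠ rho s ∧ rho s' ≠ chevE6.neg (rho s) ∧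
  rho s' ≠ s ∧ rho s' ≠ chevE6.neg s ∧ s' ≠ rho s ∧ s' ≠ chevE6.neg (rho s) ∧
  b ≠ s ∧ b ≠ chevE6.neg s ∧ b ≠ rho s ∧ b ≠ chevE6.neg (rho s) ∧
  b ≠ s' ∧ b ≠ chevE6.neg s' ∧ b ≠ rho s' ∧ b ≠ chevE6.neg (rho s')

instance (s s' b : ℕ) (n1 n2 : ℤ) : Decidable (Ck s s' b n1 n2) := by unfold Ck; infer_instance

/-- the relations for the fixed roots orthogonal to the highest root: `(s, s', b, n)` -/
def Tb : List (ℕ × ℕ × ℕ × ℤ) :=
  [(3, 48, 11, 1), (4, 49, 27, -1), (7, 52, 32, -1), (9, 54, 39, -1), (10, 55, 44, -1), (21, 66, 60, 1)]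

theorem tb_check : ∀ x ∈ Tb, Ck x.1 x.2.1 x.2.2.1 x.2.2.2 x.2.2.2 ∧ x.1 < 72 ∧ x.2.1 < 72 ∧ x.2.2.1 < 72 ∧
    rho x.1 ≠ x.1 ∧ rho x.2.1 ≠ x.2.1 ∧ expo chevE6 71 x.1 % 2 ≠ 0 ∧ expo chevE6 71 x.2.1 % 2 ≠ 0 ∧
    eps x.1 = eps x.2.1 ∧ (x.2.2.2 = 1 ∨ x.2.2.2 = -1) ∧ rho x.2.2.1 = x.2.2.1 := by decide +kernel

/-- every root of `Fix τ` is reached -/
theorem cover_check : ∀ s < 72, expo chevE6 71 s % 2 ≠ 0 ∨ s = 0 ∨ s = 71 ∨ (∃ x ∈ Tb, x.2.2.1 = s) ∨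
    (rho s ≠ s ∧ ∃ b ∈ [44, 39, 60], expo chevE6 b s % 2 ≠ 0 ∧ expo chevE6 b (rho s) % 2 ≠ 0) := by decide +kernel

theorem tb_mem : ∀ b ∈ [44, 39, 60], (∃ x ∈ Tb, x.2.2.1 = b) ∧ ∃ x ∈ Tb, x.2.2.1 = chevE6.neg b := by decide +kernel

theorem expo_rho : ∀ s < 72, expo chevE6 71 (rho s) = expo chevE6 71 s := by decide +kernel

theorem expo_vec : ∀ s < 72, expo chevE6 71 s = Cfsg.Agent.Nodes.RGDChev.vec chevE6 6 s 1 := by
  decide +kernel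

/-- the final pair -/
theorem fin_check : Ck 48 66 71 1 1 ∧ rho 66 = 68 ∧ rho 48 = 50 ∧ rho 50 = 48 ∧ rho 68 = 66 ∧ eps 48 = 1 ∧ eps 66 = 1 := by
  decide +kernel

theorem neg_71 : chevE6.neg 71 = 0 := by decide +kernel

theorem pair_check : ∀ s < 72, rho s ≠ s → chevE6.commTerms s (rho s) = [] ∧ rho s ≠ s ∧ rho s ≠ chevE6.neg s := by
  decide +kernel

/-- simple roots by moved roots -/
theorem simple_check : ∀ i < 6, rho (chevE6.simple i) ≠ chevE6.simple i ∨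
    ∃ x ∈ [(39, 9, 64), (46, 12, 62)], x.1 = chevE6.simple i ∧ rho x.2.1 ≠ x.2.1 ∧ rho x.2.2 ≠ x.2.2 ∧
      ∀ j : Fin 6, Cfsg.Agent.Nodes.RGDChev.vec chevE6 6 x.1 j =
        Cfsg.Agent.Nodes.RGDChev.vec chevE6 6 x.2.1 j +
        Cfsg.Agent.Nodes.RGDChev.vec chevE6 6 x.2.2 j := by decide +kernel

end Cfsg.Agent.H368.G3
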