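import Cfsg.Agent.H368.G3.Clo
import Cfsg.Agent.H85.RGT.SixD
import Cfsg.Agent.H884.NA.BaseNA

/-!
# S3509, outer involutions of graph type, odd characteristic: the component of the fixed points (helper368)

`M = MM n t = MK K X`, `X` the root group of the highest root in `L = Fx {φ, τ}`.

* `zr_M` : all root elements of `L` are in `M`;
* `nsa_M` : `M` is nonabelian simple and not alternating, if its centre is trivial and `P ≤ M`.
-/

set_option autoImplicit false
set_option linter.unusedSectionVars false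

namespace Cfsg.Agent.H368.G3

open CoxeterSystem Subgroup Cfsg Cfsg.Lie Cfsg.Lie.ChevalleyDatum
open Cfsg.Agent.ChevalleyStructure.TwistedE6Sigma
open Cfsg.Agent.Nodes.RGDChev Cfsg.Agent.Nodes.RGDFold Cfsg.Agent.Nodes.RGDFoldSL
open Cfsg.Agent.H469.Exc
open Cfsg.Agent.H296.ESixGF (hp6)
open Cfsg.Agent.H692.RG
open Cfsg.Agent.H85.RGT Cfsg.Agent.H85.RGT.Six
open Cfsg.Agent.H398.RG (MK Base Cond le_MK conj_MK)
open Cfsg.Agent.H873.RG (NSA)
open Cfsg.Agent.ChevalleyStructure.SL2Hom (up lo)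
open Cfsg.Agent.ChevalleyStructure.HMatDiagAll (expo)
open Cfsg.Agent.H167.EX (ph ph_up ph_lo)

/-- a simple quotient by a trivial centre -/
theorem nsa_of_center {G : Type*} [Group G] {M : Subgroup G} (h : NSA (M ⧸ Subgroup.center M))
    (hc : Subgroup.center M = ⊥) : NSA M := by
  let e : M ⧸ Subgroup.center M ≃* M := (QuotientGroup.quotientMulEquivOfEq hc).trans QuotientGroup.quotientBot
  refine ⟨?_, fun hc => h.ncomm ⟨⟨fun a b => e.injective ?_⟩⟩, fun ⟨n, hn, ⟨f⟩⟩ => h.nalt ⟨n, hn, ⟨e.trans f⟩⟩⟩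
  · exact Cfsg.Agent.H106.RC.isSimple_cgr0 e h.simple
  · rw [map_mul, map_mul]
    exact hc.is_comm.comm _ _

variable {r : ℕ} [Fact r.Prime] {n : ℕ} {ε : (KK r)ˣ} {t : YY r} {e : ℤ}

/-- the data of helper85 -/
theorem td_of (h : TE ε t) (n : ℕ) : TD (KK r) r n ε t :=
  ⟨h.eps, h.mem, h.sq, h.phi n, h.gam, fun _ ha => h.ch ha⟩

/-- the subgroup generated by the conjugates of the root group of the highest root -/
noncomputable abbrev MM (n : ℕ) (t : YY r) : Subgroup (YY r) := MK (K6 (KK r) r n t) (X6 (KK r) r n t 71)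

theorem sgn_exists (h : TE ε t) : ∃ e : ℤ, (e = 1 ∨ e = -1) ∧ (ε : KK r) = (e : KK r) := by
  rcases h.cases with rfl | rfl
  · exact ⟨1, Or.inl rfl, by simp⟩
  · exact ⟨-1, Or.inr rfl, by simp⟩

theorem rh_eq {s : ℕ} (hs : s < 72) : (rh ⟨s, hs⟩).val = rho s := (rho_eq ⟨s, hs⟩).1

theorem rh_fix {s : ℕ} (hs : s < 72) : rh ⟨s, hs⟩ = ⟨s, hs⟩ ↔ rho s = s := by
  rw [Fin.ext_iff, rh_eq hs]

theorem even_of_in (he : e = 1 ∨ e = -1) (heε : (ε : KK r) = (e : KK r)) {s : ℕ} (hs : s < 72) (hf : rho s = s)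
    (hin : In e s) : ε = 1 ∨ Even (vc s 1) := by
  have h1 : kap e s = 1 := by
    rcases hin with h | h
    · exact absurd hf h
    · exact h
  unfold kap at h1
  split_ifs at h1 with h0
  · right
    show Even (vec chevE6 6 s 1)
    rw [← expo_vec s hs]
    exact Int.even_iff.2 h0
  · left
    rw [eps_of_rho_eq s hs hf, mul_one] at h1
    apply Units.ext
    rw [heε, h1, Int.cast_one, Units.val_one]

theorem zr_eq_zz (h : TE ε t) (heε : (ε : KK r) = (e : KK r)) {s : ℕ} (hs : s < 72) (hm : rho s ≠ s) (c : KK r) :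
    zr e s c = zz t s c := by
  rw [zr_mov e hm, ← tau_xr h heε hs]
  rfl

theorem zr_K (h : TE ε t) (he : e = 1 ∨ e = -1) (heε : (ε : KK r) = (e : KK r)) {s : ℕ} (hs : s < 72)
    (hin : In e s) {c : KK r} (hc : Fq n c) : zr e s c ∈ K6 (KK r) r n t := by
  have D := td_of h n
  by_cases hf : rho s = s
  · rw [zr_fix e hf]
    have h1 := xe_L r D (s := ⟨s, hs⟩) ((rh_fix hs).2 hf) (even_of_in he heε hs hf hin) hc
    by_cases h36 : 36 ≤ s
    · exact Subgroup.mem_sup_left (Subgroup.mem_sup_left ⟨xe_U (locFin r) hs h36 c, h1⟩)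
    · exact Subgroup.mem_sup_left (Subgroup.mem_sup_right ⟨xe_V (locFin r) (by omega) c, h1⟩)
  · rw [zr_eq_zz h heε hs hf]
    exact zz_K r (locFin r) D (s := ⟨s, hs⟩) (fun h' => hf ((rh_fix hs).1 h')) hc

theorem even71 : ε = 1 ∨ Even (vc (71 : Fin 72).val 1) := Or.inr (by decide +kernel)

theorem even0 : ε = 1 ∨ Even (vc (0 : Fin 72).val 1) := Or.inr (by decide +kernel)

/-- **All root elements of `L` are in `M`.** -/
theorem zr_M (hr2 : r ≠ 2) (hn0 : 0 < n) (h : TE ε t) (he : e = 1 ∨ e = -1) (heε : (ε : KK r) = (e : KK r)) {s : ℕ}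
    (hs : s < 72) (hin : In e s) {c : KK r} (hc : Fq n c) : zr e s c ∈ MM n t := by
  have D := td_of h n
  refine all_in (M := MM n t) (n := n) hr2 (fun s hs hin c hc m hm => conj_MK (zr_K h he heε hs hin hc) hm) he
    (fun c hc => ?_) (fun c hc => ?_) hs hin hc
  · exact le_MK _ _ ((mem_X6 r D (s := 71) rh_vals.2.2.1 even71).2 ⟨c, hc, rfl⟩)
  · exact Y_le_MK r hr2 hn0 (locFin r) D ((mem_X6 r D (s := 0) rh_vals.2.2.2.1 even0).2 ⟨c, hc, rfl⟩)

theorem zz_M (hr2 : r ≠ 2) (hn0 : 0 < n) (h : TE ε t) (s : Fin 72) (hs : rh s ≠ s) : zz t s.val 1 ∈ MM n t := by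
  obtain ⟨e, he, heε⟩ := sgn_exists h
  have h1 : rho s.val ≠ s.val := fun h' => hs ((rh_fix s.2).2 h')
  rw [← zr_eq_zz h heε s.2 h1]
  exact zr_M hr2 hn0 h he heε s.2 (Or.inl h1) (fq_one n)

/-! ### not alternating -/

/-- the finite field -/
theorem exists_gf (hn0 : 0 < n) : ∃ (F : Type) (_ : Field F) (_ : Fintype F) (_ : F →+* KK r), Fintype.card F = r ^ n := by
  have : Fintype (GaloisField r n) := Fintype.ofFinite _
  let _ : Algebra (ZMod r) (KK r) := ZMod.algebra _ r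
  have j : GaloisField r n →ₐ[ZMod r] KK r := IsAlgClosed.lift
  refine ⟨GaloisField r n, inferInstance, inferInstance, j.toRingHom, ?_⟩
  rw [← Nat.card_eq_fintype_card, GaloisField.card r n hn0.ne']

theorem l71 : 71 < chevE6.nroots := by decide

theorem m71 (h : TE ε t) (y : YY r) : y ∈ X6 (KK r) r n t 71 ↔ ∃ c : KK r, c ^ r ^ n = c ∧ y = xe 71 c :=
  mem_X6 r (td_of h n) (s := 71) rh_vals.2.2.1 even71

theorem m0 (h : TE ε t) (y : YY r) : y ∈ X6 (KK r) r n t 0 ↔ ∃ c : KK r, c ^ r ^ n = c ∧ y = xe 0 c :=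
  mem_X6 r (td_of h n) (s := 0) rh_vals.2.2.2.1 even0

theorem imgH (hn0 : 0 < n) (h : TE ε t) : Cfsg.Agent.H884.NA.ImgH (r ^ n) (X6 (KK r) r n t 71) (X6 (KK r) r n t 0) := by
  have D := td_of h n
  obtain ⟨F, _, _, j, hF⟩ := exists_gf (r := r) hn0
  have hj : ∀ c : KK r, c ^ r ^ n = c ↔ ∃ x : F, j x = c := by
    intro c
    constructor
    · intro hc
      exact Cfsg.Agent.BpExc.Emb.mem_range_of_pow j (by rw [hF]; exact hc)
    · rintro ⟨x, rfl⟩
      rw [← map_pow, ← hF, FiniteField.pow_card]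
  refine ⟨F, inferInstance, inferInstance,
    (ph hp6 (KK r) l71).comp (Matrix.SpecialLinearGroup.map j), hF, fun y => ?_, fun y => ?_, fun x hx => ?_⟩
  · rw [m71 h]
    constructor
    · rintro ⟨c, hc, rfl⟩
      obtain ⟨x, rfl⟩ := (hj c).1 hc
      refine ⟨x, ?_⟩
      rw [MonoidHom.comp_apply, map_up, ph_up]
      rfl
    · rintro ⟨x, rfl⟩
      refine ⟨j x, (hj _).2 ⟨x, rfl⟩, ?_⟩
      rw [MonoidHom.comp_apply, map_up, ph_up]
      rfl
  · rw [m0 h]
    constructor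
    · rintro ⟨c, hc, rfl⟩
      obtain ⟨x, rfl⟩ := (hj c).1 hc
      refine ⟨x, ?_⟩
      rw [MonoidHom.comp_apply, map_lo, ph_lo, neg_71]
      rfl
    · rintro ⟨x, rfl⟩
      refine ⟨j x, (hj _).2 ⟨x, rfl⟩, ?_⟩
      rw [MonoidHom.comp_apply, map_lo, ph_lo, neg_71]
      rfl
  · rw [MonoidHom.comp_apply, map_up, ph_up] at hx
    have h1 : xe 71 (j x) = 1 := hx
    rw [xe_eq_one (by decide)] at h1
    exact (map_eq_zero j).1 h1

/-- **`M` is nonabelian simple and not alternating.** -/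
theorem nsa_M (hr2 : r ≠ 2) (hn0 : 0 < n) (h : TE ε t) (hP : P6 (KK r) r n t ≤ MM n t)
    (hcen : ∀ y ∈ Fx (SS (KK r) r n t), (∀ x ∈ MM n t, y * x = x * y) → y = 1) : NSA ↥(MM n t) := by
  have D := td_of h n
  have hL := finite_L (k := KK r) r (m := n) (t := t) hn0 (locFin r)
  have hKL : K6 (KK r) r n t ≤ Fx (SS (KK r) r n t) := K6_le_L r
  have hKf : Finite ↥(K6 (KK r) r n t) := Finite.of_injective _ (Subgroup.inclusion_injective hKL)
  have hB := base6 (locFin r) r hr2 hn0 D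
  have hI := imgH hn0 h
  have hML : MM n t ≤ Fx (SS (KK r) r n t) := (Cfsg.Agent.H398.RG.MK_le_self hB.leX).trans hKL
  refine nsa_of_center (Cfsg.Agent.H884.NA.nsa_base hB (cond6 r hr2 hn0 (locFin r) D) rfl hI (Or.inr ?_)) ?_
  · refine ⟨P6 (KK r) r n t, hP, (isPGroup_UU (tw6 (locFin r) r)).to_le inf_le_left, ?_, fun h2 => ?_⟩
    · have hPf : Finite ↥(P6 (KK r) r n t) := Finite.of_injective _ (Subgroup.inclusion_injective inf_le_right)
      have hcX := (Cfsg.Agent.H884.NA.imgH_props rfl hI).1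
      rw [← hcX]
      have hXP : X6 (KK r) r n t 71 ≤ P6 (KK r) r n t := by
        rintro y ⟨hy, hyL⟩
        obtain ⟨c, rfl⟩ := (mem_XX (by decide)).1 hy
        exact ⟨xe_U (locFin r) (by decide) (by decide) c, hyL⟩
      refine lt_of_le_of_ne (Subgroup.card_le_of_le hXP) fun hcard => ?_
      have heq := Subgroup.eq_of_le_of_card_ge hXP hcard.ge
      have h60 : xe 60 (1 : KK r) ∈ P6 (KK r) r n t :=
        ⟨xe_U (locFin r) (by decide) (by decide) 1,
          xe_L r D (s := 60) (by decide +kernel) (Or.inr (by decide +kernel)) (one_pow _)⟩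
      rw [← heq] at h60
      obtain ⟨c, -, hc⟩ := (m71 h _).1 h60
      exact one_ne_zero (eq_zero_of_eq (by decide) (by decide) (by decide) hc)
    · exfalso
      exact hr2 ((Nat.prime_dvd_prime_iff_eq (Fact.out : r.Prime) Nat.prime_two).1 (by
        rw [← h2]
        exact dvd_pow_self r hn0.ne'))
  · rw [eq_bot_iff]
    intro z hz
    rw [Subgroup.mem_bot]
    apply Subtype.ext
    refine hcen z (hML z.2) fun x hx => ?_
    exact (congrArg Subtype.val (Subgroup.mem_center_iff.1 hz ⟨x, hx⟩)).symm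

end Cfsg.Agent.H368.G3
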