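import Cfsg.Agent.H368.G3.Abs
import Cfsg.Agent.H368.G3.Nsa
import Cfsg.Agent.H85.RGT.SixF
import Cfsg.Agent.H692.RG.G3b

/-!
# S3509, outer involutions of graph type, `q` odd (helper368)

* `P_le` : `U ∩ L ≤ M`;
* `g3_of` : the theorem for a normal form of `x i₀`;
* `g3_e6`, `g3_te6` : the statements `G3E6`, `G3TE6` of `H327/RG/OutSix.lean`.
-/

set_option autoImplicit false
set_option linter.unusedSectionVars false

namespace Cfsg.Agent.H368.G3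

open CoxeterSystem Subgroup Cfsg Cfsg.Lie Cfsg.Lie.ChevalleyDatum
open Cfsg.Agent.ChevalleyStructure.TwistedE6Sigma
open Cfsg.Agent.ChevalleyStructure.GraphSymm (symmE6)
open Cfsg.Agent.H469.Exc (KK locFin)
open Cfsg.Agent.H296.ESixGF (hp6)
open Cfsg.Agent.H692.RG (TE GrD grD_e6 grD_te6 rng_e6 rng_te6 U_le' fin6 fin6T)
open Cfsg.Agent.H85.RGT Cfsg.Agent.H85.RGT.Six
open Cfsg.Agent.H398.RG (MK MK_le MK_le_self)
open Cfsg.Agent.H873.RG (NSA IHx)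
open Cfsg.Agent.H106.RC Cfsg.Agent.H327.RG
open Cfsg.Agent.H28.GenF (InD)
open Cfsg.Agent.BpExc.FamTw.Gr (gr)
open Cfsg.Agent.BpExc.FamTw.Six (em)
open Cfsg.Agent.BpExc.TowChev Cfsg.Agent.BpExc.Fr Cfsg.Agent.BpExc.FamUntw Cfsg.Agent.BpExc.FamInst
open Cfsg.Agent.BpExc.LangFr Cfsg.Agent.BpExc.FamField Cfsg.Agent.BpExc.RowsUntw
open Cfsg.Agent.GpExc.Field (emb)
open scoped commutatorElement

variable {r : ℕ} [Fact r.Prime] {n : ℕ} {ε : (KK r)ˣ} {t : YY r}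

/-- **`U ∩ L ≤ M`.** -/
theorem P_le (hr2 : r ≠ 2) (hn0 : 0 < n) (h : TE ε t) : P6 (KK r) r n t ≤ MM n t := by
  obtain ⟨e, he, heε⟩ := sgn_exists h
  rintro u ⟨hu, huL⟩
  obtain ⟨h1, h2⟩ := (Cfsg.Agent.H85.RGT.Six.mem_L r).1 huL
  rw [U6_eq (locFin r)] at hu
  refine U_le' hn0 hr2 h heε he (fun s hs hf hk c hc => ?_) (fun s hs hm c hc => ?_) hu h1 h2
  · have h3 := zr_M hr2 hn0 h he heε hs (Or.inr hk) hc
    rw [zr_fix e hf] at h3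
    exact h3
  · have h3 := zr_M hr2 hn0 h he heε hs (Or.inl hm) hc
    rw [zr_mov e hm] at h3
    exact h3

/-- **The theorem for a normal form.** -/
theorem g3_of {G Ω : Type} [Group G] [Finite G] [Nonempty Ω] [MulAction G Ω] {N : Subgroup G} {K₀ : Type}
    [Group K₀] [Finite K₀] {κ' : Type} [Finite κ'] (hE : Env G Ω N) (e : N ≃* K₀) (hIH : IHx (Nat.card K₀))
    {x : κ' → G} {s : κ' → ℕ} (hx : PF x s) (hcov : Cov Ω x) {i₀ : κ'} (hr2 : r ≠ 2) (hn0 : 0 < n) (h : TE ε t)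
    {κ : K₀ →* YY r} (hG : GrD n (act hE e (x i₀)) t κ) (hIn : ∀ j, j ≠ i₀ → act hE e (x j) ∈ InD κ)
    (hfin : ∃ a b : K₀, κ a * xe 71 1 = xe 71 1 * κ a ∧ κ b * xe 71 1 = xe 71 1 * κ b ∧
      ⁅Cfsg.Agent.H85.RGT.Six.tau t (κ a) * (κ a)⁻¹, κ b⁆ = xe 71 1) : False := by
  have D := td_of h n
  have hP := P_le hr2 hn0 h
  have hKL : K6 (KK r) r n t ≤ Fx (SS (KK r) r n t) := K6_le_L r
  have hB := base6 (locFin r) r hr2 hn0 D
  have hML : MM n t ≤ Fx (SS (KK r) r n t) := (MK_le_self hB.leX).trans hKL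
  have hMr : MM n t ≤ κ.range := by
    refine MK_le fun y hy z hz => ?_
    have h1 : y * z * y⁻¹ ∈ Fx (SS (KK r) r n t) := mul_mem (mul_mem (hKL hy) hz.2) (inv_mem (hKL hy))
    obtain ⟨hφ, hτ⟩ := (Cfsg.Agent.H85.RGT.Six.mem_L r).1 h1
    obtain ⟨c, -, rfl⟩ := (m71 h z).1 hz
    obtain ⟨a, -, ha⟩ := hG.surj _ hφ hτ ⟨1, by
      rw [pow_one, conj_pow, xe_pow, CharP.cast_eq_zero, zero_mul, xe_zero, mul_one, mul_inv_cancel]⟩
    exact ⟨a, ha⟩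
  have hMτ : ∀ m ∈ MM n t, Cfsg.Agent.H85.RGT.Six.tau t m = m := fun m hm =>
    ((Cfsg.Agent.H85.RGT.Six.mem_L r).1 (hML hm)).2
  have hne : MM n t ≠ κ.range := by
    intro heq
    apply act_ne_one hE e (hx.ne i₀)
    refine MulEquiv.ext fun a => hG.inj ?_
    rw [hG.act]
    exact hMτ (κ a) (by rw [heq]; exact ⟨a, rfl⟩)
  have hcM := cent_MK r hr2 hn0 (locFin r) D hP
  have hM := nsa_M hr2 hn0 h hP hcM
  obtain ⟨a, b, ca, cb, hab⟩ := hfin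
  have hu : xe 71 (1 : KK r) ∈ MM n t :=
    Cfsg.Agent.H398.RG.le_MK _ _ ((m71 h _).2 ⟨1, one_pow _, rfl⟩)
  refine g3_kill hE e hIH hx hcov hG.inj hG.cen (τ := Cfsg.Agent.H85.RGT.Six.tau t) (φ := phi chevE6 (KK r) r n)
    (i₀ := i₀) (fun a => (hG.act a).symm) ?_ hIn hMr hne hM hMτ
    (fun y h1 h2 => norm_MK r hr2 hn0 (locFin r) D hP y ((Cfsg.Agent.H85.RGT.Six.mem_L r).2 ⟨h2, h1⟩))
    (fun y h1 h2 => hcM y ((Cfsg.Agent.H85.RGT.Six.mem_L r).2 ⟨h2, h1⟩))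
    ⟨xe 71 1, hu, fun h1 => one_ne_zero ((xe_eq_one (by decide)).1 h1), a, b, ca, cb, hab⟩
  rcases hG.frob with h1 | h1
  · exact Or.inl h1
  · exact Or.inr fun a => (h1 a).trans (hG.act a)

theorem inD_conj {K₀ Y : Type*} [Group K₀] [Group Y] {ι : K₀ →* Y} (v : Y) {z : MulAut K₀} (h : z ∈ InD ι) :
    z ∈ InD ((MulAut.conj v).toMonoidHom.comp ι) := by
  obtain ⟨y, hy⟩ := h
  refine ⟨v * y * v⁻¹, fun a => ?_⟩
  show v * ι (z a) * v⁻¹ = v * y * v⁻¹ * (v * ι a * v⁻¹) * (v * y * v⁻¹)⁻¹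
  rw [hy]
  group

theorem sq_one {G Ω K₀ κ : Type} [Group G] [MulAction G Ω] {N : Subgroup G} [Group K₀] (hE : Env G Ω N) (e : N ≃* K₀)
    {x : κ → G} {s : κ → ℕ} (hx : PF x s) {i₀ : κ} (hs : s i₀ = 2) : act hE e (x i₀) * act hE e (x i₀) = 1 := by
  have h1 := hx.pow i₀
  rw [hs] at h1
  rw [← map_mul, ← pow_two, h1, map_one]

/-- **`G3E6`.** -/
theorem g3_e6 : ∀ (r : ℕ) [Fact r.Prime], r ≠ 2 → ∀ (F : Type) [Field F] [Fintype F] [CharP F r] (f : F →+* KK r),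
    IHx (Nat.card ↥(chevE6.group F)) → ∀ (G : Type) [Group G] [Finite G] (Ω : Type) [Finite Ω] [Nonempty Ω]
    [MulAction G Ω] (N : Subgroup G) (hE : Env G Ω N) (e : N ≃* ↥(chevE6.group F)) (κ : Type) [Finite κ] (x : κ → G)
    (s : κ → ℕ), PF x s → Cov Ω x → ∀ i₀, s i₀ = 2 → IsGr f (act hE e (x i₀)) →
    (∀ j, j ≠ i₀ → act hE e (x j) ∈ InD (emb e6T.inList f)) → False := by
  intro r _ hr2 F _ _ _ f hIH G _ _ Ω _ _ _ N hE e κ _ x s hx hcov i₀ hs hg hIn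
  obtain ⟨n, hn0, hn⟩ := exists_card (F := F) r
  obtain ⟨v, t, ε, h, hv, hG⟩ := grD_e6 f hn hr2 (sq_one hE e hx hs) hg
  obtain ⟨e', he, heε⟩ := sgn_exists h
  have : Finite ↥(chevE6.group F) := Finite.of_injective _ (Subgroup.subtype_injective _)
  refine g3_of hE e hIH hx hcov hr2 hn0 h hG (fun j hj => inD_conj v (hIn j hj)) ?_
  obtain ⟨a, b, ha, har, hb, hbr, ca, cb, hab⟩ := fin6 n h heε he
  obtain ⟨a', rfl⟩ := rng_e6 f hn hv ha (k := 1) (by rw [pow_one]; exact har)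
  obtain ⟨b', rfl⟩ := rng_e6 f hn hv hb (k := 1) (by rw [pow_one]; exact hbr)
  exact ⟨a', b', ca, cb, hab⟩

/-- **`G3TE6`.** -/
theorem g3_te6 : ∀ (r : ℕ) [Fact r.Prime], r ≠ 2 → ∀ (K : Type) [Field K] [Fintype K] [CharP K r] (q : ℕ),
    IsPrimePow q → Fintype.card K = q ^ 2 → ∀ (f : K →+* KK r),
    IHx (Nat.card ↥(twistedE6 K q)) → ∀ (G : Type) [Group G] [Finite G] (Ω : Type) [Finite Ω] [Nonempty Ω]
    [MulAction G Ω] (N : Subgroup G) (hE : Env G Ω N) (e : N ≃* ↥(twistedE6 K q)) (κ : Type) [Finite κ] (x : κ → G)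
    (s : κ → ℕ), PF x s → Cov Ω x → ∀ i₀, s i₀ = 2 → IsGrT f (act hE e (x i₀)) →
    (∀ j, j ≠ i₀ → act hE e (x j) ∈ InD (em q f)) → False := by
  intro r _ hr2 K _ _ _ q hq hK f hIH G _ _ Ω _ _ _ N hE e κ _ x s hx hcov i₀ hs hg hIn
  obtain ⟨n, hn0, hn⟩ : ∃ n, 0 < n ∧ q = r ^ n := by
    obtain ⟨p, n, hp, hn0, rfl⟩ := (isPrimePow_nat_iff q).1 hq
    obtain ⟨m, hm, hm'⟩ := FiniteField.card K r
    rw [hm'] at hK
    have h1 : r ∣ (p ^ n) ^ 2 := by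
      rw [← hK]
      exact dvd_pow_self r m.ne_zero
    have h2 : r = p := (Nat.prime_dvd_prime_iff_eq Fact.out hp).1
      (Nat.Prime.dvd_of_dvd_pow Fact.out (Nat.Prime.dvd_of_dvd_pow Fact.out h1))
    exact ⟨n, hn0, by rw [h2]⟩
  obtain ⟨z, t, ε, h, hz, hG⟩ := grD_te6 f hn0 hn hK hr2 (sq_one hE e hx hs) hg
  obtain ⟨e', he, heε⟩ := sgn_exists h
  have : Finite ↥(twistedE6 K q) := Finite.of_injective _ (Subgroup.subtype_injective _)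
  refine g3_of hE e hIH hx hcov hr2 hn0 h hG (fun j hj => inD_conj z (hIn j hj)) ?_
  obtain ⟨a, b, ha, har, hb, hbr, ca, cb, hab⟩ := fin6T hn0 hr2 h heε he
  obtain ⟨a', rfl⟩ := rng_te6 f hn0 hn hK h hz ha (k := 1) (by rw [pow_one]; exact har)
  obtain ⟨b', rfl⟩ := rng_te6 f hn0 hn hK h hz hb (k := 1) (by rw [pow_one]; exact hbr)
  exact ⟨a', b', ca, cb, hab⟩

end Cfsg.Agent.H368.G3
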