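import Cfsg.Agent.H368.G3.Comb
import Cfsg.Agent.H692.RG.Cls
import Cfsg.Agent.H167.EX.Root
import Cfsg.Agent.H85.RGT.SixC

/-!
# S3509, outer involutions of graph type, odd characteristic: root elements (helper368)

`Y = E₆(k)`, `k = KK r`, `x_s(c) = X s c`, `τ = tau t = conj t ∘ gr`, `φ = phi n`.

* `tau_xs` : `τ (x_s(c)) = x_{rho s}(kap e s * c)`;
* `comm2` : the commutator relation of two pairs;
* `hh_xs` : `h_b(-1)` on `x_s(c)`.
-/

set_option autoImplicit false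
set_option linter.unusedSectionVars false

namespace Cfsg.Agent.H368.G3

open CoxeterSystem Subgroup Cfsg Cfsg.Lie Cfsg.Lie.ChevalleyDatum
open Cfsg.Agent.ChevalleyStructure Cfsg.Agent.ChevalleyStructure.Elts Cfsg.Agent.ChevalleyStructure.CoxeterGeom
  Cfsg.Agent.ChevalleyStructure.CoxeterGeomTypes Cfsg.Agent.ChevalleyStructure.NPerm
open Cfsg.Agent.ChevalleyStructure.TwistedE6Sigma Cfsg.Agent.ChevalleyStructure.TwistedE6U
open Cfsg.Agent.Tits.Roots Cfsg.Agent.Nodes.RGDChev Cfsg.Agent.KFacts.RgdChevCoord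
open Cfsg.Agent.BpExc.TowChev Cfsg.Agent.BpExc.LangFr Cfsg.Agent.BpExc.FamField Cfsg.Agent.BpExc.FamUntw
  Cfsg.Agent.BpExc.FamInst Cfsg.Agent.BpExc.RowsUntw
open Cfsg.Agent.ChevalleyStructure.GraphSymm (symmE6)
open Cfsg.Agent.BpExc.FamTw.Gr
open Cfsg.Agent.H469.Exc Cfsg.Agent.H469.Exc.SigFr
open Cfsg.Agent.H296.ESixGF (hp6)
open Cfsg.Agent.H692.RG
open Cfsg.Agent.Nodes.RGDFold Cfsg.Agent.Nodes.RGDFoldSL
open Cfsg.Agent.ChevalleyStructure.SL2Hom (up lo)
open Cfsg.Agent.ChevalleyStructure.HMatDiagAll (expo)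
open Cfsg.Agent.H167.EX (ph ph_up ph_lo ph_hS_mem ch_ph_hS)
open Cfsg.Agent.H85.RGT.Six (tau tau_apply xe_eq)
open scoped commutatorElement

variable {r : ℕ} [Fact r.Prime]

/-- the group over the closure -/
abbrev YY (r : ℕ) [Fact r.Prime] : Type := ↥(chevE6.group (KK r))

/-- the root elements -/
noncomputable abbrev xr (s : ℕ) (c : KK r) : YY r := Cfsg.Agent.H85.RGT.Six.xe s c

theorem rho_eq : ∀ s : Fin 72, (Cfsg.Agent.H85.RGT.Six.rh s).val = rho s.val ∧ Cfsg.Agent.H85.RGT.Six.se s = eps s.val := by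
  decide +kernel

theorem gr_xr {s : ℕ} (hs : s < 72) (c : KK r) : gr (L := KK r) hp6.inList symmE6 (xr s c) = xr (rho s) (((eps s : ℤ) : KK r) * c) := by
  have h1 := Cfsg.Agent.H85.RGT.Six.gr_xe (k := KK r) ⟨s, hs⟩ c
  obtain ⟨h2, h3⟩ := rho_eq ⟨s, hs⟩
  rw [h2, h3] at h1
  exact h1

theorem xr_eq {s : ℕ} (hs : s < 72) (c : KK r) : xr s c = xc hp6 (vec chevE6 6 s) c := xe_eq hs c

theorem tor_xr {s : ℕ} (hs : s < 72) {t : YY r} (ht : t ∈ TT chevE6 (KK r)) (c : KK r) :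
    t * xr s c * t⁻¹ = xr s (ch hp6 (vec chevE6 6 s) t * c) := by
  have h1 := (act hp6 (K := KK r) (r := s) hs ht).2 c
  rw [xr_eq hs, xr_eq hs]
  exact h1

theorem zpow_parity {ε : (KK r)ˣ} (h : ε * ε = 1) (m : ℤ) : ε ^ m = if m % 2 = 0 then 1 else ε := by
  split_ifs with h0
  · rw [← Int.emod_add_mul_ediv m 2, h0, zero_add, two_mul, zpow_add, ← mul_zpow, h, one_zpow]
  · have h1 : m % 2 = 1 := by omega
    rw [← Int.emod_add_mul_ediv m 2, h1, zpow_add, zpow_one, two_mul, zpow_add, ← mul_zpow, h, one_zpow, mul_one]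

/-- **The action of `τ` on the root elements.** -/
theorem tau_xr {ε : (KK r)ˣ} {t : YY r} (h : TE ε t) {e : ℤ} (he : (ε : KK r) = (e : KK r)) {s : ℕ} (hs : s < 72)
    (c : KK r) : tau t (xr s c) = xr (rho s) (((kap e s : ℤ) : KK r) * c) := by
  have hrs := rho_lt s hs
  have hroot : IsRoot CoxeterMatrix.E₆.toCoxeterSystem hp6.isCartan (vec chevE6 6 (rho s)) :=
    (isRoot_iff hp6 _ _).2 ⟨rho s, hrs, rfl⟩
  rw [tau_apply, gr_xr hs, tor_xr hrs h.mem, h.ch hroot, ← expo_vec _ hrs, expo_rho s hs, zpow_parity h.eps]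
  unfold kap
  split_ifs
  · rw [Units.val_one, one_mul]
  · rw [he, Int.cast_mul, mul_assoc]

/-! ### one-parameter groups -/

theorem xr_add (s : ℕ) (c d : KK r) : xr s (c + d) = xr s c * xr s d :=
  Subtype.ext (xG_add hp6.inList s c d).symm

theorem xr_zero (s : ℕ) : xr s (0 : KK r) = 1 := Subtype.ext (xG_zero hp6.inList s)

theorem xr_neg (s : ℕ) (c : KK r) : xr s (-c) = (xr s c)⁻¹ := by
  rw [eq_inv_iff_mul_eq_one, ← xr_add, neg_add_cancel, xr_zero]

theorem phi_xr (n : ℕ) {s : ℕ} (hs : s < 72) (c : KK r) : phi chevE6 (KK r) r n (xr s c) = xr s (c ^ r ^ n) := by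
  have h1 := H378.TorChar.phi_xc hp6 r (m := n) (s := s) hs c
  rw [xr_eq hs, xr_eq hs]
  exact h1

/-! ### commutators -/

theorem comm0 {a b : ℕ} (ha : a < 72) (hb : b < 72) (hab : b ≠ a) (hneg : b ≠ chevE6.neg a)
    (h : chevE6.commTerms a b = []) (t u : KK r) : xr a t * xr b u = xr b u * xr a t :=
  Subtype.ext (commute_of_nil ha hb hab hneg h t u)

theorem comm1 {a b c : ℕ} {n : ℤ} (ha : a < 72) (hb : b < 72) (hab : b ≠ a) (hneg : b ≠ chevE6.neg a)
    (h : chevE6.commTerms a b = [(c, n, 1, 1)]) (t u : KK r) :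
    xr b u * xr a t = xr a t * xr b u * xr c (-((n : KK r) * t * u)) := by
  apply Subtype.ext
  have h1 := comm_formula (K := KK r) ha hb hab hneg t u
  have h2 : chevE6.commWord (KK r) a b t u = [(c, -((n : KK r) * t * u))] := by
    unfold ChevalleyDatum.commWord
    rw [h, List.map_cons, List.map_nil]
    congr 2
    ring
  rw [h2, wordG_cons, wordG_nil, mul_one] at h1
  exact h1

theorem mul_aux {G : Type*} [Group G] {a b a' b' w1 w2 : G} (h1 : b' * a = a * b' * w1) (h2 : a' * b = b * a' * w2)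
    (h3 : a' * a = a * a') (h4 : b' * b = b * b') (c1 : b * w1 = w1 * b) (c2 : b' * w2 = w2 * b') :
    (a' * b') * (a * b) = (a * b) * (a' * b') * (w2 * w1) := by
  calc (a' * b') * (a * b) = a' * (b' * a) * b := by group
    _ = a' * (a * b' * w1) * b := by rw [h1]
    _ = (a' * a) * b' * (w1 * b) := by group
    _ = (a * a') * b' * (b * w1) := by rw [h3, c1]
    _ = a * a' * (b' * b) * w1 := by group
    _ = a * a' * (b * b') * w1 := by rw [h4]
    _ = a * (a' * b) * b' * w1 := by group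
    _ = a * (b * a' * w2) * b' * w1 := by rw [h2]
    _ = a * b * a' * (w2 * b') * w1 := by group
    _ = a * b * a' * (b' * w2) * w1 := by rw [c2]
    _ = _ := by group

/-- **The commutator of two pairs.** -/
theorem comm2 {s s' b : ℕ} {n1 n2 : ℤ} (h : Ck s s' b n1 n2) (hs : s < 72) (hs' : s' < 72) (hb : b < 72)
    (c c2 d d2 : KK r) : (xr s' d * xr (rho s') d2) * (xr s c * xr (rho s) c2) =
      (xr s c * xr (rho s) c2) * (xr s' d * xr (rho s') d2) * xr b (-((n1 : KK r) * c * d2 + (n2 : KK r) * c2 * d)) := by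
  obtain ⟨h1, h2, h3, h4, h5, h6, h7, h8, a1, a2, a3, a4, a5, a6, a7, a8, b1, b2, b3, b4, b5, b6, b7, b8⟩ := h
  have hrs := rho_lt s hs
  have hrs' := rho_lt s' hs'
  have e : xr b (-((n1 : KK r) * c * d2 + (n2 : KK r) * c2 * d)) = xr b (-((n2 : KK r) * c2 * d)) * xr b (-((n1 : KK r) * c * d2)) := by
    rw [← xr_add]
    congr 1
    ring
  rw [e]
  exact mul_aux (comm1 hs hrs' a5 a6 h1 c d2) (comm1 hrs hs' a7 a8 h2 c2 d) (comm0 hs hs' a1 a2 h3 c d).symm
    (comm0 hrs hrs' a3 a4 h4 c2 d2).symm (comm0 hrs hb b3 b4 h6 _ _) (comm0 hrs' hb b7 b8 h8 _ _)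

/-! ### the element `h_b(-1)` -/

/-- `h_b(-1)` -/
noncomputable def hh {b : ℕ} (hb : b < 72) : YY r := ph hp6 (KK r) (s := b) hb (hS (-1))

theorem hh_mem {b : ℕ} (hb : b < 72) : hh (r := r) hb ∈ TT chevE6 (KK r) :=
  ph_hS_mem hp6 hb (neg_ne_zero.2 one_ne_zero)

theorem hh_xr {b : ℕ} (hb : b < 72) {s : ℕ} (hs : s < 72) (c : KK r) :
    hh hb * xr s c * (hh hb)⁻¹ = xr s (if expo chevE6 b s % 2 = 0 then c else -c) := by
  rw [tor_xr hs (hh_mem hb)]
  unfold hh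
  rw [ch_ph_hS hp6 hb r (locFin r) (neg_ne_zero.2 one_ne_zero) hs]
  split_ifs with h0
  · have h1 : Even (expo chevE6 b s) := Int.even_iff.2 h0
    rw [h1.neg_one_zpow, one_mul]
  · have h1 : Odd (expo chevE6 b s) := by
      rw [Int.odd_iff]
      omega
    rw [h1.neg_one_zpow, neg_one_mul]

/-- `h_b(-1)` is a word in `x_b(±1)`, `x_{-b}(±1)` -/
theorem hh_word {b : ℕ} (hb : b < 72) : hh (r := r) hb = (xr b 1 * xr (chevE6.neg b) (-1) * xr b 1) ^ 2 := by
  unfold hh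
  have h1 : (hS (-1) : Matrix.SpecialLinearGroup (Fin 2) (KK r)) = (up 1 * lo (-1) * up 1) ^ 2 := by
    apply Subtype.ext
    rw [coe_hS (neg_ne_zero.2 one_ne_zero), Matrix.SpecialLinearGroup.coe_pow, Matrix.SpecialLinearGroup.coe_mul,
      Matrix.SpecialLinearGroup.coe_mul]
    show _ = ((!![1, 1; 0, 1] : Matrix (Fin 2) (Fin 2) (KK r)) * !![1, 0; -1, 1] * !![1, 1; 0, 1]) ^ 2
    ext i j
    fin_cases i <;> fin_cases j <;> simp [pow_two, Matrix.mul_apply, Fin.sum_univ_two]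
  have e1 : ph hp6 (KK r) (s := b) hb (up 1) = xr b 1 := ph_up hp6 (s := b) hb 1
  have e2 : ph hp6 (KK r) (s := b) hb (lo (-1)) = xr (chevE6.neg b) (-1) := ph_lo hp6 (s := b) hb (-1)
  calc ph hp6 (KK r) (s := b) hb (hS (-1)) = (ph hp6 (KK r) (s := b) hb (up 1) * ph hp6 (KK r) (s := b) hb (lo (-1)) *
        ph hp6 (KK r) (s := b) hb (up 1)) ^ 2 := by rw [h1, map_pow, map_mul, map_mul]
    _ = _ := by rw [e1, e2]

end Cfsg.Agent.H368.G3
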